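import Groth.Agent.GrT.TwistMul
import Groth.Agent.ProjMor.VAmple
import Groth.Agent.ProjMor.Base
import Mathlib.AlgebraicGeometry.ProjectiveSpectrum.Proper

/-!
Closed immersions of `Proj A` into `P^N_R` by sections of degree `n`.
-/

set_option autoImplicit false
set_option backward.isDefEq.respectTransparency false

universe u

open CategoryTheory CategoryTheory.Limits TopologicalSpace AlgebraicGeometry Opposite HomogeneousLocalization
open Groth.Agent.QC (res resO res_res)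
open TMul (IsGen val homOf val_homOf)

noncomputable section

namespace ProjEmb

variable {R A : Type u} [CommRing R] [CommRing A] [Algebra R A] (𝒜 : ℕ → Submodule R A)
  [GradedAlgebra 𝒜]

lemma homOf_eq {n : ℤ} (e : Γ(GrTilde.tilde 𝒜 𝒜 n, ⊤)) :
    CohB1.genLocus (GrTilde.tilde 𝒜 𝒜 n) (homOf e) =
      CohB1.genLocus _ (GrT.homOfSection _ e) := by
  have h : ∀ W, val (homOf e) W = val (GrT.homOfSection _ e) W := fun W =>
    (val_homOf e W).trans ((GrT.homOfSection_app _ _ W 1).trans (one_smul _ _)).symm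
  refine le_antisymm (fun x hx => ?_) (fun x hx => ?_) <;>
    obtain ⟨U, hxU, hU⟩ := (TMul.mem_genLocus_iff _).mp hx
  · exact (TMul.mem_genLocus_iff _).mpr ⟨U, hxU, h U ▸ hU⟩
  · exact (TMul.mem_genLocus_iff _).mpr ⟨U, hxU, (h U).symm ▸ hU⟩

/-- `a / f ^ k` as a function on `D₊(f)`. -/
def quot {d : ℕ} {f : A} (hf : f ∈ 𝒜 d) (k : ℕ) {a : A} (ha : a ∈ 𝒜 (k • d)) :
    Γ(Proj 𝒜, Proj.basicOpen 𝒜 f) :=
  (Proj.awayToSection 𝒜 f).hom (Away.mk 𝒜 hf k a ha)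

lemma pO_quot {d : ℕ} {f : A} (hf : f ∈ 𝒜 d) (k : ℕ) {a : A} (ha : a ∈ 𝒜 (k • d))
    (y : Proj.basicOpen 𝒜 f) :
    GrT.pO 𝒜 (quot 𝒜 hf k ha) y = Localization.mk a ⟨f ^ k, GrT.not_mem_pow 𝒜
      ((ProjectiveSpectrum.mem_basicOpen 𝒜 f y.1).mp y.2) k⟩ := rfl

lemma quot_add {d : ℕ} {f : A} (hf : f ∈ 𝒜 d) (k : ℕ) {a b : A} (ha : a ∈ 𝒜 (k • d))
    (hb : b ∈ 𝒜 (k • d)) :
    quot 𝒜 hf k (add_mem ha hb) = quot 𝒜 hf k ha + quot 𝒜 hf k hb :=
  GrT.pO_ext 𝒜 fun y => by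
    rw [GrT.pO_add, pO_quot, pO_quot, pO_quot, Localization.add_mk_self]

lemma quot_mul {d : ℕ} {f : A} (hf : f ∈ 𝒜 d) {k l : ℕ} {a b : A} (ha : a ∈ 𝒜 (k • d))
    (hb : b ∈ 𝒜 (l • d)) (hab : a * b ∈ 𝒜 ((k + l) • d)) :
    quot 𝒜 hf (k + l) hab = quot 𝒜 hf k ha * quot 𝒜 hf l hb :=
  GrT.pO_ext 𝒜 fun y => by
    rw [GrT.pO_mul, pO_quot, pO_quot, pO_quot, Localization.mk_mul]
    congr 1
    exact Subtype.ext (pow_add f k l)

lemma quot_congr {d : ℕ} {f : A} (hf : f ∈ 𝒜 d) (k q : ℕ) {a : A} (ha : a ∈ 𝒜 (k • d))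
    (h : f ^ q * a ∈ 𝒜 ((q + k) • d)) : quot 𝒜 hf (q + k) h = quot 𝒜 hf k ha :=
  GrT.pO_ext 𝒜 fun y => by
    rw [pO_quot, pO_quot, Localization.mk_eq_mk_iff, Localization.r_iff_exists]
    exact ⟨1, by simp only [OneMemClass.coe_one, one_mul]; ring⟩

/-- Constants on a chart. -/
lemma ev_base {n : ℕ} (hn : 0 < n) {g : A} (hg : g ∈ 𝒜 n) (r : R)
    (h : Proj.basicOpen 𝒜 g ≤ (ProjMor.base 𝒜) ⁻¹ᵁ ⊤)
    (hr : algebraMap R A r ∈ 𝒜 (0 • n)) :
    ∃ t, ProjMor.ev (ProjMor.base 𝒜) ⊤ (Proj.basicOpen 𝒜 g) h t = quot 𝒜 hg 0 hr := by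
  have hι : (Proj.basicOpen 𝒜 g).ι ≫ ProjMor.base 𝒜 =
      Proj.basicOpenToSpec 𝒜 g ≫ Spec.map (CommRingCat.ofHom
        ((fromZeroRingHom 𝒜 (Submonoid.powers g)).comp (algebraMap R (𝒜 0)))) := by
    have h := Proj.awayι_toSpecZero 𝒜 g hg hn
    rw [Proj.awayι, Category.assoc, Iso.inv_comp_eq, Proj.basicOpenIsoSpec_hom] at h
    rw [ProjMor.base, ← Category.assoc, h, Category.assoc, ← Spec.map_comp]
    rfl
  refine ⟨(Scheme.ΓSpecIso (CommRingCat.of R)).inv r, ?_⟩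
  have h2 : (ProjUP.toGlobal ((Proj.basicOpen 𝒜 g).ι ≫ ProjMor.base 𝒜)) r =
      (Proj.basicOpen 𝒜 g).topIso.inv (quot 𝒜 hg 0 hr) := by
    have e0 : quot 𝒜 hg 0 hr =
        (Proj.awayToSection 𝒜 g).hom (fromZeroRingHom 𝒜 _ (algebraMap R (𝒜 0) r)) := by
      refine congrArg _ (val_injective _ ?_)
      rw [Away.val_mk]
      change Localization.mk (algebraMap R A r) _ = Localization.mk (algebraMap R A r) _
      congr 1
      exact Subtype.ext (pow_zero g)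
    rw [e0, hι, ProjUP.toGlobal]
    simp only [Scheme.Hom.comp_appTop]
    have e : (Proj.basicOpenToSpec 𝒜 g).appTop = _ := Proj.basicOpenToSpec_app_top 𝒜 g
    rw [e]
    simp
  have h3 : (Proj.basicOpen 𝒜 g).topIso.inv (ProjMor.ev (ProjMor.base 𝒜) ⊤ (Proj.basicOpen 𝒜 g) h
      ((Scheme.ΓSpecIso (CommRingCat.of R)).inv r)) =
      (Proj.basicOpen 𝒜 g).topIso.inv (quot 𝒜 hg 0 hr) := by
    rw [← h2]
    simp [ProjUP.toGlobal, Scheme.Opens.topIso, Scheme.Hom.appLE]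
    rfl
  exact (ConcreteCategory.bijective_of_isIso _).1 h3

variable {𝒜}

/-- Functions on a chart are generated by constants and ratios. -/
lemma closure_eq_top {n : ℕ} (hn : 0 < n) (h0 : Function.Surjective (algebraMap R (𝒜 0)))
    {ι : Type*} (c : ι → A) (hc : ∀ j, c j ∈ 𝒜 n) {g : A} (hg : g ∈ 𝒜 n)
    (hgen : ∀ k, ∀ a ∈ 𝒜 (k * n), ∃ q, g ^ q * a ∈ Submodule.span R (Set.range c) ^ (q + k))
    (T : Set Γ(Proj 𝒜, Proj.basicOpen 𝒜 g))
    (hT0 : ∀ (r : R) (hr : algebraMap R A r ∈ 𝒜 (0 • n)), quot 𝒜 hg 0 hr ∈ T)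
    (hT1 : ∀ j (hj : c j ∈ 𝒜 (1 • n)), quot 𝒜 hg 1 hj ∈ T) : Subring.closure T = ⊤ := by
  rw [eq_top_iff]
  rintro z -
  obtain ⟨w, rfl⟩ : ∃ w, (Proj.awayToSection 𝒜 g).hom w = z :=
    (ConcreteCategory.bijective_of_isIso (Proj.basicOpenIsoAway 𝒜 g hg hn).hom).2 z
  obtain ⟨k, a, ha, rfl⟩ := Away.mk_surjective 𝒜 hg w
  obtain ⟨q, hq⟩ := hgen k a (by simpa using ha)
  have key : ∀ m : ℕ, ∀ b ∈ Submodule.span R (Set.range c) ^ m, ∃ hb : b ∈ 𝒜 (m • n),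
      quot 𝒜 hg m hb ∈ Subring.closure T := by
    intro m b hb
    induction hb using Submodule.pow_induction_on_left' with
    | algebraMap r =>
      have hr : algebraMap R A r ∈ 𝒜 (0 • n) := by
        rw [zero_smul]; exact SetLike.algebraMap_mem_graded 𝒜 r
      exact ⟨hr, Subring.subset_closure (hT0 r hr)⟩
    | add x y i _ _ ihx ihy =>
      obtain ⟨hx, hx'⟩ := ihx
      obtain ⟨hy, hy'⟩ := ihy
      exact ⟨add_mem hx hy, by rw [quot_add 𝒜 hg i hx hy]; exact add_mem hx' hy'⟩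
    | mem_mul l hl i x _ ihx =>
      obtain ⟨hx, hx'⟩ := ihx
      have key1 : ∃ h1 : l ∈ 𝒜 (1 • n), quot 𝒜 hg 1 h1 ∈ Subring.closure T := by
        induction hl using Submodule.span_induction with
        | mem y hy =>
          obtain ⟨j, rfl⟩ := hy
          have hj : c j ∈ 𝒜 (1 • n) := by rw [one_smul]; exact hc j
          exact ⟨hj, Subring.subset_closure (hT1 j hj)⟩
        | zero =>
          refine ⟨zero_mem _, ?_⟩
          rw [show quot 𝒜 hg 1 (zero_mem (𝒜 (1 • n))) = 0 from GrT.pO_ext 𝒜 fun y => by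
            rw [GrT.pO_zero, pO_quot, Localization.mk_zero]]
          exact zero_mem _
        | add y z _ _ ihy ihz =>
          obtain ⟨hy, hy'⟩ := ihy
          obtain ⟨hz, hz'⟩ := ihz
          exact ⟨add_mem hy hz, by rw [quot_add 𝒜 hg 1 hy hz]; exact add_mem hy' hz'⟩
        | smul r y _ ihy =>
          obtain ⟨hy, hy'⟩ := ihy
          have hr : algebraMap R A r ∈ 𝒜 (0 • n) := by
            rw [zero_smul]; exact SetLike.algebraMap_mem_graded 𝒜 r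
          refine ⟨Submodule.smul_mem _ r hy, ?_⟩
          rw [show quot 𝒜 hg 1 (Submodule.smul_mem _ r hy) = quot 𝒜 hg 0 hr * quot 𝒜 hg 1 hy from
            GrT.pO_ext 𝒜 fun z => by
              rw [GrT.pO_mul, pO_quot, pO_quot, pO_quot, Localization.mk_mul]
              congr 1
              · exact Algebra.smul_def r y
              · exact Subtype.ext (by simp)]
          exact mul_mem (Subring.subset_closure (hT0 r hr)) hy'
      obtain ⟨h1, h1'⟩ := key1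
      have h2 : l * x ∈ 𝒜 ((1 + i) • n) := by
        rw [add_smul]; exact SetLike.mul_mem_graded h1 hx
      have hs : i.succ = 1 + i := by omega
      rw [hs]
      exact ⟨h2, by rw [quot_mul 𝒜 hg h1 hx h2]; exact mul_mem h1' hx'⟩
  obtain ⟨hb, hb'⟩ := key _ _ hq
  rw [quot_congr 𝒜 hg k q ha hb] at hb'
  exact hb'

variable (𝒜)

/-- A closed immersion into projective space by sections of degree `n`. -/
theorem exists_closedImmersion [Algebra.FiniteType R A] {n : ℕ} (hn : 0 < n)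
    (h0 : Function.Surjective (algebraMap R (𝒜 0))) {N : ℕ} (c : Fin (N + 1) → A)
    (hc : ∀ j, c j ∈ 𝒜 n) (H : Set (Fin (N + 1)))
    (hcov : ∀ x : ProjectiveSpectrum 𝒜, ∃ j ∈ H, c j ∉ x.asHomogeneousIdeal)
    (hgen : ∀ j ∈ H, ∀ k, ∀ a ∈ 𝒜 (k * n), ∃ q,
      c j ^ q * a ∈ Submodule.span R (Set.range c) ^ (q + k)) :
    ∃ i : Proj 𝒜 ⟶ CohB1.ProjSpaceOver N (Spec (CommRingCat.of R)), IsClosedImmersion i ∧
      i ≫ pullback.snd (CohB1.ProjSpace.toSpec N (ULift.{u} ℤ))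
          (specULiftZIsTerminal.from (Spec (CommRingCat.of R))) =
        Proj.toSpecZero 𝒜 ≫ Spec.map (CommRingCat.ofHom (algebraMap R (𝒜 0))) ∧
      Nonempty (Twist.twist 𝒜 (n : ℤ) ≅
        (Scheme.Modules.pullback i).obj (Twist.twistOver N (Spec (CommRingCat.of R)) 1)) := by
  have hcov' : ∀ x : ProjectiveSpectrum 𝒜, ∃ g ∈ 𝒜 n, g ∉ x.asHomogeneousIdeal := fun x => by
    obtain ⟨j, -, hj⟩ := hcov x
    exact ⟨c j, hc j, hj⟩
  have hL : PicF.IsInvertible (Twist.twist 𝒜 (n : ℤ)) :=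
    GrT.isInvertible_twist_of_gens (by simpa using GrT.hasFracGens_of_cover hcov' 1)
  let s : Fin (N + 1) → ProjUP.Γm (Twist.twist 𝒜 (n : ℤ)) := fun j => GrT.degSection (hc j)
  have hloc : ∀ j, CohB1.genLocus (Twist.twist 𝒜 (n : ℤ)) (homOf (s j)) =
      Proj.basicOpen 𝒜 (c j) := fun j =>
    (homOf_eq 𝒜 _).trans (GrT.genLocus_degSection hcov' (hc j))
  have hs : ProjUP.GeneratedBy _ s := ProjMor.generatedBy_of_mem_genLocus s fun x => by
    obtain ⟨j, -, hj⟩ := hcov x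
    exact ⟨j, (hloc j).ge ((ProjectiveSpectrum.mem_basicOpen 𝒜 _ x).mpr hj)⟩
  obtain ⟨i, hi, hiso, hrat⟩ := ProjMor.exists_toProjSpaceOver (ProjMor.base 𝒜) hL s hs
  refine ⟨i, ?_, hi, hiso⟩
  have himm : IsImmersion i := by
    refine ProjMor.isImmersion_of_charts i fun x => ?_
    obtain ⟨j, hjH, hj⟩ := hcov x
    obtain ⟨hpre, hr⟩ := hrat j
    have hpre' : (i ≫ ProjMor.pz N (Spec (CommRingCat.of R))) ⁻¹ᵁ ProjMor.chart N j =
        Proj.basicOpen 𝒜 (c j) := hpre.trans (hloc j)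
    refine ⟨j, ⊤, Proj.basicOpen 𝒜 (c j), hpre'.ge, le_top,
      (ProjectiveSpectrum.mem_basicOpen 𝒜 _ x).mpr hj, isAffineOpen_top _,
      inf_le_left.trans hpre'.le, Proj.isAffineOpen_basicOpen 𝒜 (c j) (hc j) hn, ?_⟩
    refine closure_eq_top hn h0 c hc (hc j) (hgen j hjH) _ (fun r hr' => Or.inl ?_)
      (fun k hk => Or.inr ⟨k, ?_⟩)
    · obtain ⟨t, ht⟩ := ev_base 𝒜 hn (hc j) r le_top hr'
      have aux : ∀ (m : Proj 𝒜 ⟶ Spec (CommRingCat.of R)) (_ : m = ProjMor.base 𝒜)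
          (h : Proj.basicOpen 𝒜 (c j) ≤ m ⁻¹ᵁ ⊤), ProjMor.ev m ⊤ _ h t =
            ProjMor.ev (ProjMor.base 𝒜) ⊤ (Proj.basicOpen 𝒜 (c j)) le_top t := by
        rintro m rfl h
        rfl
      exact ⟨t, (aux _ hi _).trans ht⟩
    · have hy : ∀ y : Proj.basicOpen 𝒜 (c j), c j ∉ y.1.asHomogeneousIdeal := fun y =>
        (ProjectiveSpectrum.mem_basicOpen 𝒜 _ y.1).mp y.2
      have hb := GrT.twistGen_bijective 𝒜 (hc j) (SetLike.GradedOne.one_mem (A := 𝒜))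
        (N := (n : ℤ)) (by simp) le_rfl (le_top.trans (Proj.basicOpen_one 𝒜).ge)
        (Proj.basicOpen 𝒜 (c j)) le_rfl
      refine hb.1 ?_
      have e1 := congrArg (res (Twist.twist 𝒜 (n : ℤ)) hpre'.ge) (hr k)
      rw [Groth.Agent.QC.res_smul, res_res, res_res, ProjMor.ev_res] at e1
      refine Eq.trans e1 (GrT.pt_ext 𝒜 𝒜 fun y => ?_)
      change GrT.fr 𝒜 y.1 (c k) 1 _ = (Localization.mk (c k) ⟨c j ^ 1, _⟩ : Twist.Loc 𝒜 y.1) •
        GrT.fr 𝒜 y.1 (c j) 1 _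
      rw [GrT.loc_smul_fr]
      refine (GrT.fr_eq_iff 𝒜 y.1 _ _).mpr ⟨1, y.1.isPrime.one_notMem, ?_⟩
      simp only [smul_eq_mul, one_mul, pow_one, mul_one]
      ring
  haveI : IsScalarTower R (𝒜 0) A := ⟨fun r x y => smul_mul_assoc r (x : A) y⟩
  haveI : Algebra.FiniteType (𝒜 0) A := Algebra.FiniteType.of_restrictScalars_finiteType R (𝒜 0) A
  haveI : IsClosedImmersion (Spec.map (CommRingCat.ofHom (algebraMap R (𝒜 0)))) :=
    IsClosedImmersion.spec_of_surjective _ h0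
  haveI : IsProper (i ≫ CohB1.ProjSpaceOver.toBase N (Spec (CommRingCat.of R))) := by
    rw [hi, ProjMor.base]; infer_instance
  haveI : IsSeparated (CohB1.ProjSpaceOver.toBase N (Spec (CommRingCat.of R))) := by
    unfold CohB1.ProjSpaceOver.toBase CohB1.ProjSpace.toSpec
    infer_instance
  haveI : IsProper i := IsProper.of_comp i (CohB1.ProjSpaceOver.toBase N (Spec (CommRingCat.of R)))
  exact IsClosedImmersion.of_isPreimmersion i i.isClosedMap.isClosed_range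

end ProjEmb
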