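import Mathlib

/-!
Homogeneous elements of a graded algebra as combinations of monomials in homogeneous generators.
-/

set_option autoImplicit false

universe u

open DirectSum

namespace ProjEmb

variable {R A : Type u} [CommRing R] [CommRing A] [Algebra R A] (𝒜 : ℕ → Submodule R A)
  [GradedAlgebra 𝒜] {ι : Type*} [Fintype ι] {f : ι → A} {deg : ι → ℕ}

lemma monomial_mem (hf : ∀ i, f i ∈ 𝒜 (deg i)) (e : ι → ℕ) :
    ∏ i, f i ^ e i ∈ 𝒜 (∑ i, e i * deg i) := by
  simpa [smul_eq_mul] using SetLike.prod_pow_mem_graded 𝒜 deg f e (F := Finset.univ) fun i _ => hf i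

/-- Every homogeneous element is a combination of monomials of its degree. -/
theorem mem_span_monomials (hf : ∀ i, f i ∈ 𝒜 (deg i))
    (hgen : Algebra.adjoin R (Set.range f) = ⊤) {m : ℕ} {a : A} (ha : a ∈ 𝒜 m) :
    a ∈ Submodule.span R {b | ∃ e : ι → ℕ, ∑ i, e i * deg i = m ∧ b = ∏ i, f i ^ e i} := by
  classical
  have h1 : (Submonoid.closure (Set.range f) : Set A) ⊆
      {b | ∃ e : ι → ℕ, b = ∏ i, f i ^ e i} := fun b hb => by
    induction hb using Submonoid.closure_induction with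
    | mem x hx =>
      obtain ⟨i, rfl⟩ := hx
      refine ⟨Pi.single i 1, ?_⟩
      rw [Finset.prod_eq_single i (fun j _ hj => by simp [hj]) (by simp)]
      simp
    | one => exact ⟨0, by simp⟩
    | mul x y _ _ hx hy =>
      obtain ⟨d, rfl⟩ := hx
      obtain ⟨e, rfl⟩ := hy
      exact ⟨d + e, by simp [pow_add, Finset.prod_mul_distrib]⟩
  have h2 : a ∈ Submodule.span R (Submonoid.closure (Set.range f) : Set A) := by
    rw [← Algebra.adjoin_eq_span, hgen]; exact Submodule.mem_top
  have key : ∀ b ∈ Submodule.span R (Submonoid.closure (Set.range f) : Set A),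
      ((decompose 𝒜 b m : 𝒜 m) : A) ∈
        Submodule.span R {b | ∃ e : ι → ℕ, ∑ i, e i * deg i = m ∧ b = ∏ i, f i ^ e i} := by
    intro b hb
    induction hb using Submodule.span_induction with
    | mem x hx =>
      obtain ⟨e, rfl⟩ := h1 hx
      by_cases hm : ∑ i, e i * deg i = m
      · rw [decompose_of_mem_same 𝒜 (hm ▸ monomial_mem 𝒜 hf e)]
        exact Submodule.subset_span ⟨e, hm, rfl⟩
      · rw [decompose_of_mem_ne 𝒜 (monomial_mem 𝒜 hf e) hm]
        exact zero_mem _
    | zero => simp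
    | add x y _ _ hx hy => simpa [decompose_add] using add_mem hx hy
    | smul r x _ hx =>
      rw [decompose_smul]
      exact Submodule.smul_mem _ r hx
  simpa [decompose_of_mem_same 𝒜 ha] using key a h2

/-- If the generators have positive degree, the degree zero part is the image of the base ring. -/
theorem algebraMap_zero_surjective (hf : ∀ i, f i ∈ 𝒜 (deg i)) (hdeg : ∀ i, 0 < deg i)
    (hgen : Algebra.adjoin R (Set.range f) = ⊤) :
    Function.Surjective (algebraMap R (𝒜 0)) := fun x => by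
  have h := mem_span_monomials 𝒜 hf hgen x.2
  have hle : Submodule.span R {b | ∃ e : ι → ℕ, ∑ i, e i * deg i = 0 ∧ b = ∏ i, f i ^ e i} ≤
      (1 : Submodule R A) := Submodule.span_le.mpr fun b ⟨e, he, hb⟩ => by
    have : ∀ i, e i = 0 := fun i => by
      have := (Finset.sum_eq_zero_iff.mp he) i (Finset.mem_univ i)
      exact (Nat.mul_eq_zero.mp this).resolve_right (hdeg i).ne'
    rw [hb]
    simp only [this, pow_zero, Finset.prod_const_one]
    exact Submodule.one_le.mp le_rfl
  obtain ⟨r, hr⟩ := Submodule.mem_one.mp (hle h)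
  exact ⟨r, Subtype.ext hr⟩

/-- Positive-degree generators have no common zero on `Proj`. -/
theorem exists_not_mem (hf : ∀ i, f i ∈ 𝒜 (deg i))
    (hgen : Algebra.adjoin R (Set.range f) = ⊤) (x : ProjectiveSpectrum 𝒜) :
    ∃ i, 0 < deg i ∧ f i ∉ x.asHomogeneousIdeal := by
  by_contra hne
  push_neg at hne
  refine x.not_irrelevant_le fun a ha => ?_
  classical
  have h : ∀ m, 0 < m → ∀ b ∈ 𝒜 m, b ∈ x.asHomogeneousIdeal := fun m hm b hb => by
    refine (Submodule.span_le (p := x.asHomogeneousIdeal.toIdeal.restrictScalars R)).mpr ?_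
      (mem_span_monomials 𝒜 hf hgen hb)
    rintro _ ⟨e, he, rfl⟩
    obtain ⟨i, -, hi⟩ := Finset.exists_ne_zero_of_sum_ne_zero (he.trans_ne hm.ne')
    rw [Nat.mul_ne_zero_iff] at hi
    exact x.asHomogeneousIdeal.toIdeal.prod_mem (Finset.mem_univ i)
      (Ideal.pow_mem_of_mem _ (hne i (Nat.pos_of_ne_zero hi.2)) _ (Nat.pos_of_ne_zero hi.1))
  have ha0 : (decompose 𝒜 a 0 : A) = 0 := ha
  rw [← sum_support_decompose 𝒜 a]
  refine x.asHomogeneousIdeal.toIdeal.sum_mem fun m _ => ?_
  rcases Nat.eq_zero_or_pos m with rfl | hm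
  · rw [ha0]; exact zero_mem _
  · exact h m hm _ (decompose 𝒜 a m).2

/-- A finitely generated algebra generated by homogeneous elements in degrees `s` has a finite such family. -/
theorem exists_finite_generators [Algebra.FiniteType R A] (s : Finset ℕ)
    (hgen : Algebra.adjoin R (⋃ i ∈ s, (𝒜 i : Set A)) = ⊤) :
    ∃ (p : ℕ) (f : Fin p → A) (deg : Fin p → ℕ), (∀ i, deg i ∈ s ∧ f i ∈ 𝒜 (deg i)) ∧
      Algebra.adjoin R (Set.range f) = ⊤ := by
  classical
  obtain ⟨T, hT⟩ := (Algebra.FiniteType.out : (⊤ : Subalgebra R A).FG)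
  have h1 : ∀ a ∈ Algebra.adjoin R (⋃ i ∈ s, (𝒜 i : Set A)), ∃ S : Finset A,
      (S : Set A) ⊆ (⋃ i ∈ s, (𝒜 i : Set A)) ∧ a ∈ Algebra.adjoin R (S : Set A) := fun a ha => by
    induction ha using Algebra.adjoin_induction with
    | mem x hx => exact ⟨{x}, by simpa using hx, Algebra.subset_adjoin (by simp)⟩
    | algebraMap r => exact ⟨∅, by simp, Subalgebra.algebraMap_mem _ r⟩
    | add x y _ _ hx hy =>
      obtain ⟨S, hS, hxS⟩ := hx
      obtain ⟨S', hS', hyS⟩ := hy
      refine ⟨S ∪ S', by simp [hS, hS'], add_mem ?_ ?_⟩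
      · exact Algebra.adjoin_mono (by simp) hxS
      · exact Algebra.adjoin_mono (by simp) hyS
    | mul x y _ _ hx hy =>
      obtain ⟨S, hS, hxS⟩ := hx
      obtain ⟨S', hS', hyS⟩ := hy
      refine ⟨S ∪ S', by simp [hS, hS'], mul_mem ?_ ?_⟩
      · exact Algebra.adjoin_mono (by simp) hxS
      · exact Algebra.adjoin_mono (by simp) hyS
  choose! S hS hS' using fun a (_ : a ∈ T) => h1 a (by rw [hgen]; trivial)
  let U := T.biUnion S
  have hU : ∀ b : U, ∃ i ∈ s, (b : A) ∈ 𝒜 i := fun b => by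
    obtain ⟨a, ha, hb⟩ := Finset.mem_biUnion.mp b.2
    simpa using hS a ha hb
  choose d hd hd' using hU
  refine ⟨U.card, fun i => (U.equivFin.symm i : A), fun i => d (U.equivFin.symm i),
    fun i => ⟨hd _, hd' _⟩, top_le_iff.mp ?_⟩
  rw [← hT, Algebra.adjoin_le_iff]
  intro a ha
  refine Algebra.adjoin_mono (fun b hb => ?_) (hS' a ha)
  exact ⟨U.equivFin ⟨b, Finset.mem_biUnion.mpr ⟨a, ha, hb⟩⟩, by simp⟩

end ProjEmb
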